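import Groth.Agent.EtSection.SH
import Groth.Agent.EtaleSite.Stalk
import Groth.Agent.EtaleSite.ExtEquiv
import Groth.Prelude.Def_EtZar
import Mathlib.CategoryTheory.Sites.DenseSubsite.SheafEquiv

/-!
# The étale site of a scheme with strictly henselian local rings is the Zariski site
-/

set_option autoImplicit false

universe u

open CategoryTheory CategoryTheory.Limits AlgebraicGeometry Opposite TopologicalSpace

noncomputable section

namespace Groth.Agent.EtZarSH

open Groth.Agent.EtaleSite

variable (S : Scheme.{u})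

instance full_zarToEt : (EtZar.zarToEt S).Full := by
  refine ⟨fun {U V} g => ?_⟩
  have hle : U ≤ V := by
    intro x hx
    have h : V.ι (g.left ⟨x, hx⟩) = x :=
      congrArg (fun k : (U : Scheme.{u}) ⟶ S => k ⟨x, hx⟩) (MorphismProperty.Over.w g)
    have h' : (g.left ⟨x, hx⟩).1 = x := h
    rw [← h']
    exact (g.left ⟨x, hx⟩).2
  refine ⟨homOfLE hle, MorphismProperty.Over.Hom.ext ?_⟩
  exact (cancel_mono V.ι).1 ((S.homOfLE_ι hle).trans (MorphismProperty.Over.w g).symm)

instance faithful_zarToEt : (EtZar.zarToEt S).Faithful := ⟨fun _ => Subsingleton.elim _ _⟩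

variable {S} (hS : ∀ s : S, EtCoh.IsStrictlyHenselianLocalRing (S.presheaf.stalk s))

theorem functorPushforward_mem_iff {U : S.Opens} (R : Sieve U) :
    R.functorPushforward (EtZar.zarToEt S) ∈ S.smallEtaleTopology _ ↔
      R ∈ Opens.grothendieckTopology S U := by
  constructor
  · intro h x hx
    obtain ⟨ι, Z, f, hf⟩ := (R.functorPushforward (EtZar.zarToEt S)).exists_eq_ofArrows
    rw [hf, Scheme.ofArrows_mem_smallEtaleTopology_iff] at h
    have hx' : (⟨x, hx⟩ : ((EtZar.zarToEt S).obj U).left) ∈ ⋃ i, Set.range (f i).left := by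
      rw [h]; trivial
    obtain ⟨i, v, hv⟩ := Set.mem_iUnion.1 hx'
    have hi : R.functorPushforward (EtZar.zarToEt S) (f i) := by
      rw [hf]; exact Sieve.ofArrows_mk _ f i
    obtain ⟨V, g, k, hg, hk⟩ := hi
    refine ⟨V, g, hg, ?_⟩
    have e : (f i).left v = (S.homOfLE g.le) (k.left v) := by
      rw [hk]; rfl
    have : ((S.homOfLE g.le) (k.left v)).1 = x := by
      rw [← e, hv]
    rw [← this, Scheme.homOfLE_apply]
    exact (k.left v).2
  · intro h
    refine mem_topology_of_forall_exists _ fun u => ?_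
    obtain ⟨V, g, hg, hV⟩ := h u.1 u.2
    refine ⟨(EtZar.zarToEt S).obj V, (EtZar.zarToEt S).map g, ⟨u.1, hV⟩,
      Sieve.image_mem_functorPushforward _ R hg, Subtype.ext ?_⟩
    exact Scheme.homOfLE_apply g.le _

include hS in
theorem isCoverDense : (EtZar.zarToEt S).IsCoverDense S.smallEtaleTopology := by
  refine ⟨fun U => mem_topology_of_forall_exists _ fun u => ?_⟩
  have : Etale U.hom := U.prop
  obtain ⟨V, s, hV, hs, v, hv⟩ := Groth.Agent.EtSection.exists_section_of_sh U.hom u (hS _)
  let k : (EtZar.zarToEt S).obj V ⟶ U := MorphismProperty.Over.homMk s hs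
  exact ⟨(EtZar.zarToEt S).obj V, k, v, ⟨⟨V, 𝟙 _, k, Category.id_comp _⟩⟩, hv⟩

include hS in
theorem isDenseSubsite :
    (EtZar.zarToEt S).IsDenseSubsite (Opens.grothendieckTopology S) S.smallEtaleTopology where
  isCoverDense' := isCoverDense hS
  functorPushforward_mem_iff := functorPushforward_mem_iff _

include hS in
theorem main [EtZar.ZarCont S] (F : EtCoh.Ab S) (i : ℕ) :
    Nonempty (EtCoh.H S F i ≃+ EtZar.H ((EtZar.resZar S).obj F) i) := by
  have := isDenseSubsite hS
  let R := EtZar.resZar S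
  have : R.IsEquivalence := inferInstance
  let e := R.asEquivalence
  have hinj : ∀ I : EtCoh.Ab S, Injective I → Injective (R.obj I) := fun I _ =>
    Injective.injective_of_adjoint e.symm.toAdjunction I
  have : R.Additive :=
    have : PreservesBinaryBiproducts R := preservesBinaryBiproducts_of_preservesBinaryProducts R
    Functor.additive_of_preservesBinaryBiproducts R
  let K := (constantSheaf S.smallEtaleTopology AddCommGrpCat.{u + 1}).obj
    (AddCommGrpCat.of (ULift.{u + 1} ℤ))
  let K' := (constantSheaf (Opens.grothendieckTopology S) AddCommGrpCat.{u + 1}).obj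
    (AddCommGrpCat.of (ULift.{u + 1} ℤ))
  let φ : K' ≅ R.obj K :=
    (presheafToSheaf _ _).mapIso (Iso.refl _) ≪≫
      ((EtZar.zarToEt S).pushforwardContinuousSheafificationCompatibility AddCommGrpCat.{u + 1}
        (Opens.grothendieckTopology S) S.smallEtaleTopology).app
        ((Functor.const _).obj (AddCommGrpCat.of (ULift.{u + 1} ℤ)))
  let g : Abelian.Ext (R.obj K) (R.obj F) i →+ EtZar.H (R.obj F) i :=
    (Abelian.Ext.mk₀ φ.hom).precomp (R.obj F) (zero_add i)
  have hg : Function.Bijective g := by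
    refine Function.bijective_iff_has_inverse.2
      ⟨fun y => (Abelian.Ext.mk₀ φ.inv).comp y (zero_add i), fun y => ?_, fun y => ?_⟩
    · change (Abelian.Ext.mk₀ φ.inv).comp ((Abelian.Ext.mk₀ φ.hom).comp y (zero_add i)) (zero_add i) = y
      rw [Abelian.Ext.mk₀_comp_mk₀_assoc, Iso.inv_hom_id, Abelian.Ext.mk₀_id_comp]
    · change (Abelian.Ext.mk₀ φ.hom).comp ((Abelian.Ext.mk₀ φ.inv).comp y (zero_add i)) (zero_add i) = y
      rw [Abelian.Ext.mk₀_comp_mk₀_assoc, Iso.hom_inv_id, Abelian.Ext.mk₀_id_comp]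
  let m : EtCoh.H S F i →+ EtZar.H (R.obj F) i := g.comp (R.mapExtAddHom K F i)
  exact ⟨AddEquiv.ofBijective m (hg.comp
    (bijective_mapExt R (Functor.FullyFaithful.ofFullyFaithful R) hinj K i F))⟩

end Groth.Agent.EtZarSH
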